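import Cfsg.Agent.Lib.Spor.ReflectionIndexThree
import Cfsg.Agent.Lib.Classical.PrimeGraphBCOrth
import Cfsg.Agent.Lib.Classical.OrthPOmegaCard
import Cfsg.Agent.Lib.Classical.QuadClass
import Cfsg.Agent.S0288

/-! The centre and order of the projective reflection groups over the field of three elements. -/

set_option autoImplicit false
set_option linter.style.haveILetI false

namespace Cfsg.Agent.Fus.ThreeA.Refl

open Matrix Cfsg Cfsg.Agent.Classical Cfsg.Agent.Spor.ReflThree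

variable {n : ℕ} {Q : QuadraticForm (ZMod 3) (Fin n → ZMod 3)}

theorem eq_zero_of_perp (hn : 5 ≤ n) (hQ : (QuadraticMap.polarBilin Q).Nondegenerate) {c : ZMod 3} (hc : c ≠ 0)
    {w : Fin n → ZMod 3} (h : ∀ v, Q v = c → QuadraticMap.polar ⇑Q w v = 0) : w = 0 := by
  refine hQ.1 w fun y => ?_
  show QuadraticMap.polar ⇑Q w y = 0
  have haniso : ∀ y, Q y ≠ 0 → QuadraticMap.polar ⇑Q w y = 0 := by
    intro y hy
    by_cases e : Q y = c
    · exact h y e
    obtain ⟨z, hz, hzp⟩ := exists_norm_perp hQ (neg_ne_zero.mpr hc) (k := 1) (by omega) (fun _ => y)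
      (fun _ => hy) fun i j k => absurd (Subsingleton.elim i j) k
    have key : ∀ q c : ZMod 3, q ≠ 0 → c ≠ 0 → q ≠ c → q + -c + 0 = c := by decide
    have h1 : Q (y + z) = c := by rw [QuadraticMap.map_add ⇑Q, hz, hzp 0, key _ c hy hc e]
    have h2 : Q (y + -z) = c := by
      rw [QuadraticMap.map_add ⇑Q, QuadraticMap.map_neg, hz, QuadraticMap.polar_neg_right, hzp 0, neg_zero,
        key _ c hy hc e]
    have e1 := h _ h1
    have e2 := h _ h2
    rw [QuadraticMap.polar_add_right] at e1 e2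
    rw [QuadraticMap.polar_neg_right] at e2
    exact (by decide : ∀ p q : ZMod 3, p + q = 0 → p + -q = 0 → p = 0) _ _ e1 e2
  by_cases hy : Q y = 0
  swap
  · exact haniso y hy
  obtain ⟨u, hu, -⟩ := exists_norm_perp hQ hc (k := 0) (by omega) (fun i => i.elim0) (fun i => i.elim0)
    fun i => i.elim0
  have hu0 := h u hu
  have key : ∀ b c : ZMod 3, c ≠ 0 → 0 + c + b ≠ 0 ∨ 0 + c + -b ≠ 0 := by decide
  rcases key (QuadraticMap.polar ⇑Q y u) c hc with k | k
  · have := haniso (y + u) (by rwa [QuadraticMap.map_add ⇑Q, hy, hu])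
    rwa [QuadraticMap.polar_add_right, hu0, add_zero] at this
  · have := haniso (y + -u) (by rwa [QuadraticMap.map_add ⇑Q, QuadraticMap.map_neg, hy, hu,
      QuadraticMap.polar_neg_right])
    rwa [QuadraticMap.polar_add_right, QuadraticMap.polar_neg_right, hu0, neg_zero, add_zero] at this

/-- The matrix of an element of the reflection group. -/
abbrev mat {c : ZMod 3} (g : ↥(reflectionSubgroup (⇑Q) c)) : Matrix (Fin n) (Fin n) (ZMod 3) :=
  (((g : ↥(isometryGroup (ZMod 3) (⇑Q))) : GL (Fin n) (ZMod 3)) : Matrix (Fin n) (Fin n) (ZMod 3))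

theorem mat_inj {c : ZMod 3} {g k : ↥(reflectionSubgroup (⇑Q) c)} (h : mat g = mat k) : g = k :=
  Subtype.ext (Subtype.ext (Units.ext h))

theorem central (hn : 5 ≤ n) (hQ : (QuadraticMap.polarBilin Q).Nondegenerate) {c : ZMod 3} (hc : c ≠ 0)
    {z : ↥(reflectionSubgroup (⇑Q) c)} (hz : z ∈ Subgroup.center _) : mat z = 1 ∨ mat z = -1 := by
  classical
  have hR := reflection_class n (by omega) Q hQ c hc
  have hzi : ∀ x, Q (mat z *ᵥ x) = Q x := fun x => Classical.mem_isometryGroup.1 z.1.2 x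
  have refl : ∀ v, Q v = c → ∃ r : ↥(reflectionSubgroup (⇑Q) c),
      (r : ↥(isometryGroup (ZMod 3) (⇑Q))) ∈ reflectionsOfNorm (⇑Q) c ∧ mat r = reflectionMatrix ⇑Q v := by
    intro v hv
    have hv0 : Q v ≠ 0 := hv ▸ hc
    exact ⟨⟨OrthAut.refl hv0, Subgroup.subset_closure ⟨v, hv, rfl⟩⟩, ⟨v, hv, rfl⟩, rfl⟩
  have eig : ∀ v, Q v = c → mat z *ᵥ v = v ∨ mat z *ᵥ v = -v := by
    intro v hv
    obtain ⟨r, -, hr⟩ := refl v hv
    have hzr : (z : ↥(isometryGroup (ZMod 3) (⇑Q))) * r * (z : ↥(isometryGroup (ZMod 3) (⇑Q)))⁻¹ = r := by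
      have := congrArg Subtype.val (Subgroup.mem_center_iff.mp hz r)
      rw [Subgroup.coe_mul, Subgroup.coe_mul] at this
      rw [← this, mul_inv_cancel_right]
    have e := coe_conj (g := (z : ↥(isometryGroup (ZMod 3) (⇑Q)))) (r := r) hr
    rw [hzr] at e
    change mat r = reflectionMatrix ⇑Q (mat z *ᵥ v) at e
    rw [hr] at e
    have h1 := congrArg (fun M => M *ᵥ v) e
    simp only [Classical.reflectionMatrix_mulVec, QuadraticMap.polar_self, hv, hzi, two_smul] at h1
    have key : ∀ c : ZMod 3, c ≠ 0 → c⁻¹ * (c + c) = 2 := by decide +kernel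
    rw [key c hc] at h1
    obtain ⟨γ, hγ⟩ : ∃ γ, γ = c⁻¹ * QuadraticMap.polar ⇑Q (mat z *ᵥ v) v := ⟨_, rfl⟩
    rw [← hγ] at h1
    have h2 : γ • (mat z *ᵥ v) = (2 : ZMod 3) • v := (sub_right_inj.mp h1).symm
    have hv0 : v ≠ 0 := fun e => hc (by rw [← hv, e, QuadraticMap.map_zero])
    rcases (by decide : ∀ t : ZMod 3, t = 0 ∨ t = 1 ∨ t = 2) γ with k | k | k <;> rw [k] at h2
    · rw [zero_smul] at h2
      exact absurd ((smul_eq_zero.mp h2.symm).resolve_left (by decide)) hv0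
    · rw [one_smul, show (2 : ZMod 3) = -1 by decide, neg_one_smul] at h2
      exact Or.inr h2
    · exact Or.inl (smul_right_injective _ (show (2 : ZMod 3) ≠ 0 by decide) h2)
  obtain ⟨v₀, hv₀, -⟩ := exists_norm_perp hQ hc (k := 0) (by omega) (fun i => i.elim0) (fun i => i.elim0)
    fun i => i.elim0
  have htrans : ∀ ε : ZMod 3, ε * ε = 1 → mat z *ᵥ v₀ = ε • v₀ → mat z = ε • 1 := by
    intro ε hεε hε
    have all : ∀ v, Q v = c → mat z *ᵥ v = ε • v := by
      intro v hv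
      obtain ⟨r₀, hm₀, hr₀⟩ := refl v₀ hv₀
      obtain ⟨r, hm, hr⟩ := refl v hv
      obtain ⟨g, hg⟩ := Cfsg.Agent.Spor.ThreeTrans.transitive hR (a := r₀) (b := r) hm₀ hm
      have e := coe_conj (g := (g : ↥(isometryGroup (ZMod 3) (⇑Q)))) (r := r₀) hr₀
      have e' : mat r = reflectionMatrix ⇑Q (mat g *ᵥ v₀) := by
        rw [← hg]
        exact e
      rw [hr] at e'
      have h1 := congrArg (fun M => M *ᵥ v) e'
      simp only [Classical.reflectionMatrix_mulVec, QuadraticMap.polar_self, hv, two_smul,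
        show Q (mat g *ᵥ v₀) = c from (Classical.mem_isometryGroup.1 g.1.2 v₀).trans hv₀] at h1
      have key : ∀ c : ZMod 3, c ≠ 0 → c⁻¹ * (c + c) = 2 := by decide +kernel
      rw [key c hc] at h1
      have h2 := (sub_right_inj.mp h1)
      obtain ⟨γ, hγ⟩ : ∃ γ, γ = c⁻¹ * QuadraticMap.polar ⇑Q (mat g *ᵥ v₀) v := ⟨_, rfl⟩
      rw [← hγ] at h2
      have hv' : v = ((2 : ZMod 3) * γ) • (mat g *ᵥ v₀) := by
        rw [mul_smul, ← h2, smul_smul, show (2 : ZMod 3) * 2 = 1 by decide, one_smul]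
      have hcomm : mat z * mat g = mat g * mat z :=
        congrArg mat (Subgroup.mem_center_iff.mp hz g).symm
      rw [hv', Matrix.mulVec_smul, Matrix.mulVec_mulVec, hcomm, ← Matrix.mulVec_mulVec, hε,
        Matrix.mulVec_smul, smul_comm]
    refine Matrix.ext_of_mulVec_single fun i => ?_
    rw [Matrix.smul_mulVec, Matrix.one_mulVec]
    obtain ⟨x, hx⟩ : ∃ x : Fin n → ZMod 3, x = Pi.single i 1 := ⟨_, rfl⟩
    rw [← hx]
    refine sub_eq_zero.mp (eq_zero_of_perp hn hQ hc fun v hv => ?_)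
    have h1 : QuadraticMap.polar ⇑Q (mat z *ᵥ x) (mat z *ᵥ v) = QuadraticMap.polar ⇑Q x v := by
      simp only [QuadraticMap.polar, ← Matrix.mulVec_add, hzi]
    rw [all v hv, QuadraticMap.polar_smul_right, smul_eq_mul] at h1
    rw [QuadraticMap.polar_sub_left, QuadraticMap.polar_smul_left, smul_eq_mul, ← h1, ← mul_assoc, hεε, one_mul,
      sub_self]
  rcases eig v₀ hv₀ with e | e
  · exact Or.inl ((htrans 1 (by decide) (by rw [one_smul]; exact e)).trans (one_smul _ _))
  · exact Or.inr ((htrans (-1) (by decide) (by rw [neg_one_smul]; exact e)).trans (neg_one_smul _ _))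

theorem card_center_le (hn : 5 ≤ n) (hQ : (QuadraticMap.polarBilin Q).Nondegenerate) {c : ZMod 3} (hc : c ≠ 0) :
    Nat.card ↥(Subgroup.center ↥(reflectionSubgroup (⇑Q) c)) ≤ 2 := by
  classical
  let f : ↥(Subgroup.center ↥(reflectionSubgroup (⇑Q) c)) → Bool := fun z => decide (mat z.1 = 1)
  refine (Nat.card_le_card_of_injective f fun x y e => Subtype.ext (mat_inj ?_)).trans (by simp)
  simp only [f, decide_eq_decide] at e
  rcases central hn hQ hc x.2 with k | k <;> rcases central hn hQ hc y.2 with k' | k'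
  · rw [k, k']
  · rw [k, e.mp k]
  · rw [k', e.mpr k']
  · rw [k, k']

theorem le_card_quot (hn : 5 ≤ n) (hQ : (QuadraticMap.polarBilin Q).Nondegenerate) {c : ZMod 3} (hc : c ≠ 0) :
    Nat.card (isometryGroup (ZMod 3) ⇑Q) ≤
      4 * Nat.card (↥(reflectionSubgroup (⇑Q) c) ⧸ Subgroup.center ↥(reflectionSubgroup (⇑Q) c)) := by
  rw [← (reflectionSubgroup (⇑Q) c).card_mul_index, reflection_index hn hQ hc,
    Subgroup.card_eq_card_quotient_mul_card_subgroup (Subgroup.center ↥(reflectionSubgroup (⇑Q) c))]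
  refine le_trans (Nat.mul_le_mul_right _ (Nat.mul_le_mul_left _ (card_center_le hn hQ hc))) (le_of_eq ?_)
  ring

theorem det_omega {F : Type*} [Field F] {ι : Type} [Fintype ι] [DecidableEq ι] {f : (ι → F) → F}
    {g : isometryGroup F f} (hg : g ∈ Omega F f) : (((g : GL ι F) : Matrix ι ι F)).det = 1 := by
  have := Abelianization.commutator_subset_ker
    ((Units.map (Matrix.detMonoidHom : Matrix ι ι F →* F)).comp (isometryGroup F f).subtype) hg
  rw [MonoidHom.mem_ker] at this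
  exact congrArg Units.val this

theorem gramDet_eq (Q : QuadraticForm (ZMod 3) (Fin n → ZMod 3)) :
    gramDet (QuadraticMap.polarBilin Q) (Pi.basisFun (ZMod 3) (Fin n)) = polarGramDet ⇑Q := by
  rw [gramDet, polarGramDet]
  refine congrArg Matrix.det (Matrix.ext fun i j => ?_)
  simp [LinearMap.BilinForm.toMatrix_apply]

/-- The order of the six-dimensional orthogonal group of square discriminant. -/
theorem card_six {Q : QuadraticForm (ZMod 3) (Fin 6 → ZMod 3)} (hQ : (QuadraticMap.polarBilin Q).Nondegenerate)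
    (hμ : polarGramDet ⇑Q = 1) : Nat.card (isometryGroup (ZMod 3) ⇑Q) = 26127360 := by
  have hab : ∀ z₁ z₂ : ZMod 3, z₁ ^ 2 + 0 * z₁ * z₂ + 1 * z₂ ^ 2 = 0 → z₁ = 0 ∧ z₂ = 0 := by decide
  have h2 : (2 : ZMod 3) ≠ 0 := by decide
  obtain ⟨g, hg⟩ := (isometric_iff_disc h2 hQ (nondegenerate_qfMinus 2 hab) (Pi.basisFun (ZMod 3) (Fin 6))
    (Pi.basisFun (ZMod 3) ((Fin 2 ⊕ Fin 2) ⊕ Fin 2)) (by simp)).2 (by
      rw [gramDet_eq, hμ, gramDet_qfMinus]
      exact ⟨1, by decide⟩)
  have h := Cfsg.Agent.S0288.result (show Fintype.card (ZMod 3) = 3 from ZMod.card 3) 3 (by norm_num) 0 1 hab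
  rw [natCard_isometryGroup' (qfMinus (3 - 1) (ZMod 3) 0 1) (coe_qfMinus _ _ _)] at h
  rw [natCard_isometryGroup, isoCard_congr g hg]
  refine h.trans ?_
  norm_num [Finset.prod_range_succ]

/-- The projective reflection group in dimension seven. -/
theorem seven {Q : QuadraticForm (ZMod 3) (Fin 7 → ZMod 3)} (hQ : (QuadraticMap.polarBilin Q).Nondegenerate)
    {c : ZMod 3} (hc : c ≠ 0) :
    4585351680 ≤ Nat.card (↥(reflectionSubgroup (⇑Q) c) ⧸ Subgroup.center ↥(reflectionSubgroup (⇑Q) c)) ∧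
      (Nat.card (↥(reflectionSubgroup (⇑Q) c) ⧸ Subgroup.center ↥(reflectionSubgroup (⇑Q) c)) ≤ 4585351680 →
        Nonempty (↥(reflectionSubgroup (⇑Q) c) ⧸ Subgroup.center ↥(reflectionSubgroup (⇑Q) c) ≃*
          POmega (ZMod 3) (quadFormOdd 3 (ZMod 3)))) := by
  classical
  have h2 : (2 : ZMod 3) ≠ 0 := by decide
  obtain ⟨φ⟩ := Cfsg.Agent.Classical.PrimeGraphBC.exists_mulEquiv_odd (n := 3) h2 hQ (by simp)
  have hQo := nondegenerate_qfOdd (F := ZMod 3) 3 h2
  have hcardO : Nat.card (isometryGroup (ZMod 3) ⇑(qfOdd 3 (ZMod 3))) = 18341406720 := by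
    rw [natCard_isometryGroup]
    have ho := order_qfOdd (F := ZMod 3) h2 3
    rw [ZMod.card] at ho
    simp only [Finset.prod_range_succ, Finset.prod_range_zero] at ho
    norm_num at ho
    exact_mod_cast ho
  have hO : Nat.card (isometryGroup (ZMod 3) ⇑Q) = 18341406720 := (Nat.card_congr φ.toEquiv).trans hcardO
  have hle := le_card_quot (n := 7) (by norm_num) hQ hc
  rw [hO] at hle
  refine ⟨by omega, fun hub => ?_⟩
  set R := reflectionSubgroup (⇑Q) c with hR
  haveI : R.Normal := Subgroup.normal_of_index_eq_two (reflection_index (by norm_num) hQ hc)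
  have hΩR : Omega (ZMod 3) ⇑Q ≤ R := by
    haveI : IsCyclic (isometryGroup (ZMod 3) ⇑Q ⧸ R) := isCyclic_of_prime_card (p := 2)
      (show Nat.card _ = 2 from reflection_index (by norm_num) hQ hc)
    exact Subgroup.Normal.quotient_commutative_iff_commutator_le.mp IsCyclic.isMulCommutative
  let ρ : ↥(Omega (ZMod 3) ⇑Q) →* ↥R ⧸ Subgroup.center ↥R :=
    (QuotientGroup.mk' _).comp (Subgroup.inclusion hΩR)
  have hinj : Function.Injective ρ := by
    refine (injective_iff_map_eq_one ρ).mpr fun g hg => Subtype.ext ?_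
    have hz : Subgroup.inclusion hΩR g ∈ Subgroup.center ↥R := (QuotientGroup.eq_one_iff _).mp hg
    rcases central (n := 7) (by norm_num) hQ hc hz with e | e
    · exact Subtype.ext (Units.ext e)
    · exfalso
      have h1 := det_omega g.2
      change (mat (Subgroup.inclusion hΩR g)).det = 1 at h1
      rw [e, Matrix.det_neg, Matrix.det_one] at h1
      revert h1
      simp only [Fintype.card_fin]
      decide
  have hidx := Cfsg.Agent.Classical.OrthAut.index_omega_odd hQ (Cfsg.Agent.Classical.OrthAut.genQ_odd hQ h2) h2 (by simp)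
  have hΩ : Nat.card ↥(Omega (ZMod 3) ⇑Q) = 4585351680 := by
    have := (Omega (ZMod 3) ⇑Q).card_mul_index
    rw [hidx, hO] at this
    omega
  have e1 : ↥(Omega (ZMod 3) ⇑Q) ≃* ↥R ⧸ Subgroup.center ↥R := MulEquiv.ofBijective ρ
    ((Nat.bijective_iff_injective_and_card ρ).mpr ⟨hinj, by omega⟩)
  have hmap : (Omega (ZMod 3) ⇑Q).map φ.toMonoidHom = Omega (ZMod 3) ⇑(qfOdd 3 (ZMod 3)) := by
    show (commutator _).map _ = commutator _
    rw [commutator_def, Subgroup.map_commutator, Subgroup.map_top_of_surjective _ φ.surjective, commutator_def]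
  have e2 : ↥(Omega (ZMod 3) ⇑Q) ≃* ↥(Omega (ZMod 3) ⇑(qfOdd 3 (ZMod 3))) :=
    ((Omega (ZMod 3) ⇑Q).equivMapOfInjective φ.toMonoidHom φ.injective).trans (MulEquiv.subgroupCongr hmap)
  have hcz : Subgroup.center ↥(Omega (ZMod 3) ⇑(qfOdd 3 (ZMod 3))) = ⊥ := by
    refine Subgroup.eq_bot_of_card_eq _ (OrthAut.card_center_one hQo (OrthAut.tri_qfOdd le_rfl) (by decide)
      fun g hg e => absurd (det_omega hg) ?_)
    change (OrthAut.ogVal g).det ≠ 1
    rw [e, Matrix.det_neg, Matrix.det_one]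
    decide
  have e3 : ↥(Omega (ZMod 3) ⇑(qfOdd 3 (ZMod 3))) ≃* POmega (ZMod 3) ⇑(qfOdd 3 (ZMod 3)) :=
    ((QuotientGroup.quotientMulEquivOfEq hcz).trans QuotientGroup.quotientBot).symm
  rw [show quadFormOdd 3 (ZMod 3) = ⇑(qfOdd 3 (ZMod 3)) from funext fun v => (qfOdd_apply ..).symm]
  exact ⟨e1.symm.trans (e2.trans e3)⟩

end Cfsg.Agent.Fus.ThreeA.Refl
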