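import Cfsg.Agent.Lib.Fus.ThreeA.Basic
import Cfsg.Agent.Lib.Block.FischerTypes.Types

/-! The group of the common perpendicular is the centraliser of the pair. -/

set_option autoImplicit false
set_option linter.style.haveILetI false

namespace Cfsg.Agent.Fus.ThreeA

open Cfsg Cfsg.Agent.Spor.ThreeTrans Cfsg.Agent.Block.FischerTypes

variable {G : Type*} [Group G] [Finite G] {D : Set G}

/-- The group of the common perpendicular modulo its centre. -/
abbrev CQ (D : Set G) (a c : G) : Type _ :=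
  ↥(Subgroup.closure (common D a c)) ⧸ Subgroup.center ↥(Subgroup.closure (common D a c))

theorem group_eq (S : Setting D) {N : ℕ}
    (hcard : ∀ a ∈ D, ∀ d ∈ D, ¬ Commute a d → Nat.card ↥(Subgroup.centralizer ({a, d} : Set G)) = N)
    {a₁ c₁ : G} (ha₁ : a₁ ∈ D) (hc₁ : c₁ ∈ D) (hac : ¬ Commute a₁ c₁) (hN : N ≤ Nat.card (CQ D a₁ c₁))
    {a d : G} (ha : a ∈ D) (hd : d ∈ D) (hnc : ¬ Commute a d) :
    Subgroup.closure (common D a d) = Subgroup.centralizer ({a, d} : Set G) ∧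
      Nonempty (↥(Subgroup.closure (common D a d)) ≃* CQ D a₁ c₁) ∧ Nat.card (CQ D a₁ c₁) ≤ N := by
  obtain ⟨g, rfl, rfl⟩ := apart_pair_conj S ha₁ hc₁ hac ha hd hnc
  set K := Subgroup.closure (common D a₁ c₁) with hK
  have hmap : K.map (MulAut.conj g).toMonoidHom =
      Subgroup.closure (common D (g * a₁ * g⁻¹) (g * c₁ * g⁻¹)) := by
    rw [hK, MonoidHom.map_closure]
    congr 1
    show _ = perp D (g * a₁ * g⁻¹) ∩ perp D (g * c₁ * g⁻¹)
    rw [perp_conj S.cls, perp_conj S.cls, ← Set.image_inter fun u v k => by simpa using k]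
    rfl
  have e : ↥K ≃* ↥(Subgroup.closure (common D (g * a₁ * g⁻¹) (g * c₁ * g⁻¹))) :=
    (K.equivMapOfInjective _ (MulAut.conj g).injective).trans (MulEquiv.subgroupCongr hmap)
  have h1 := common_le S.cls ha₁ hc₁ hac
  have k1 : Nat.card ↥K ≤ N := (Subgroup.card_le_of_le h1).trans_eq (hcard _ ha₁ _ hc₁ hac)
  have hq := Subgroup.card_eq_card_quotient_mul_card_subgroup (Subgroup.center ↥K)
  have hq1 : 1 ≤ Nat.card ↥(Subgroup.center ↥K) := Nat.card_pos
  have k2 : Nat.card (CQ D a₁ c₁) ≤ Nat.card ↥K := by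
    rw [hq]
    exact Nat.le_mul_of_pos_right _ hq1
  have hz : Subgroup.center ↥K = ⊥ := Subgroup.eq_bot_of_card_eq _ (by
    have hpos : 0 < Nat.card (CQ D a₁ c₁) := Nat.card_pos
    have hle : Nat.card (CQ D a₁ c₁) * Nat.card ↥(Subgroup.center ↥K) ≤ Nat.card (CQ D a₁ c₁) * 1 := by
      rw [mul_one, ← hq]; omega
    exact le_antisymm (Nat.le_of_mul_le_mul_left hle hpos) hq1)
  refine ⟨Subgroup.eq_of_le_of_card_ge (common_le S.cls (conj_mem S.cls g ha₁) (conj_mem S.cls g hc₁) hnc) ?_,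
    ⟨e.symm.trans ((QuotientGroup.quotientMulEquivOfEq hz).trans QuotientGroup.quotientBot).symm⟩, by omega⟩
  rw [hcard _ (conj_mem S.cls g ha₁) _ (conj_mem S.cls g hc₁) hnc, ← Nat.card_congr e.toEquiv]
  omega

end Cfsg.Agent.Fus.ThreeA
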