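import Cfsg.Agent.Lib.Fus.ThreeA.M23
import Cfsg.Agent.Lib.Fus.ThreeA.Group
import Cfsg.Agent.Lib.Block.FischerTypes.M24Centralizer
import Cfsg.Agent.Lib.Transfer.Cores
import Cfsg.Agent.Lib.Grp.ComponentSplit
import Cfsg.Agent.S1325

/-! The pair of apart transpositions in type M(24). -/

set_option autoImplicit false
set_option linter.style.haveILetI false
set_option linter.unusedSectionVars false

namespace Cfsg.Agent.Fus.ThreeA

/-- A normal simple subgroup with trivial centraliser is the generalised Fitting subgroup. -/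
theorem gfitting_eq_of_simple {X : Type*} [Group X] [Finite X] (N : Subgroup X) [N.Normal] (hs : IsSimpleGroup N)
    (hna : ¬ IsMulCommutative N) (hC : Subgroup.centralizer (N : Set X) = ⊥) :
    Cfsg.generalizedFittingSubgroup X = N := by
  haveI := hs
  haveI := Transfer.fittingSubgroup_normal' X
  haveI := Grp.ComponentSplit.layer_normal (G := X)
  have hnil : Group.IsNilpotent ↥(Cfsg.fittingSubgroup X) := Transfer.fittingSubgroup_isNilpotent
  have hF : Cfsg.fittingSubgroup X = ⊥ := by
    rw [eq_bot_iff, ← hC, ← Subgroup.commutator_eq_bot_iff_le_centralizer, eq_bot_iff]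
    refine (Subgroup.commutator_le_inf _ _).trans (le_of_eq ?_)
    rcases ((Subgroup.normal_inf_normal (Cfsg.fittingSubgroup X) N).subgroupOf N).eq_bot_or_eq_top with e | e
    · rw [Subgroup.subgroupOf_eq_bot, disjoint_iff, inf_assoc, inf_idem] at e
      exact e
    · exfalso
      have hle : N ≤ Cfsg.fittingSubgroup X := (Subgroup.subgroupOf_eq_top.mp e).trans inf_le_left
      haveI := hnil
      haveI : Group.IsNilpotent N := Group.nilpotent_of_mulEquiv (Subgroup.subgroupOfEquivOfLe hle)
      haveI : Group.IsSolvable N := inferInstance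
      exact hna ⟨⟨IsSimpleGroup.comm_iff_isSolvable.mpr inferInstance⟩⟩
  have hle : Cfsg.generalizedFittingSubgroup X ≤ N :=
    S1325.result N (hF ▸ bot_le) (hC ▸ bot_le)
  haveI : (Cfsg.generalizedFittingSubgroup X).Normal := Subgroup.sup_normal _ _
  rcases ((inferInstance : (Cfsg.generalizedFittingSubgroup X).Normal).subgroupOf N).eq_bot_or_eq_top with e | e
  · exfalso
    rw [Subgroup.subgroupOf_eq_bot, disjoint_iff, inf_eq_left.mpr hle] at e
    have := Grp.centralizer_gfitting_le (G := X)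
    rw [e] at this
    have hN : N ≤ ⊥ := le_trans (fun y _ => Subgroup.mem_centralizer_iff.mpr fun z hz => by
      rw [SetLike.mem_coe, Subgroup.mem_bot] at hz
      subst hz
      simp) this
    exact hna ⟨⟨fun p q => Subtype.ext (by
      rw [Subgroup.mem_bot.mp (hN (p * q).2), Subgroup.mem_bot.mp (hN (q * p).2)])⟩⟩
  · exact le_antisymm hle (Subgroup.subgroupOf_eq_top.mp e)

end Cfsg.Agent.Fus.ThreeA

namespace Cfsg.Agent.Fus.ThreeA.M24

open Cfsg Cfsg.Agent.Spor.ThreeTrans Cfsg.Agent.Block.FischerTypes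

variable {G : Type*} [Group G] [Finite G] {D : Set G} (B : M24.Base D) {a d : G} (ha : a ∈ D) (hd : d ∈ D)
  (hnc : ¬ Commute a d)
include B ha hd hnc

theorem card_T {s : G} (hs : s ∈ common D a d) : (common D a d ∩ perp D s).ncard = 351 := by
  have has := M22.perp_symm ha hs.1
  have hds := M22.perp_symm hd hs.2
  have e := M24.card_common_three B hs.1.1 has hds
  rw [M23.mu (B.sub s hs.1.1) (pr_mem has) (pr_mem hds)
    (fun k => hnc (commute_of_pr B.set.cls B.set.tf hs.1.1 has hds k))] at e
  rw [← e]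
  congr 1
  ext y
  exact ⟨fun k => ⟨⟨k.2, k.1.1⟩, k.1.2⟩, fun k => ⟨⟨k.1.2, k.2⟩, k.1.1⟩⟩

theorem pin : Pin D a d := by
  intro u hu hall
  have h := B.set.cls
  have htf := B.set.tf
  obtain ⟨s, hs⟩ := B.meets a ha d hd hnc
  have has := M22.perp_symm ha hs.1
  have hds := M22.perp_symm hd hs.2
  have C := B.sub s hs.1.1
  have qa : pr D s a has ∈ perpSet D s := pr_mem has
  have qd : pr D s d hds ∈ perpSet D s := pr_mem hds
  have qnc : ¬ Commute (pr D s a has) (pr D s d hds) := fun k => hnc (commute_of_pr h htf hs.1.1 has hds k)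
  have hmem : ∀ {y} (hy : y ∈ perp D s), pr D s y hy ∈ common (perpSet D s) (pr D s a has) (pr D s d hds) →
      y ∈ common D a d := fun {y} hy k =>
    ⟨(M24.toK B hs.1.1 has hy).mp k.1, (M24.toK B hs.1.1 hds hy).mp k.2⟩
  have hus : u ≠ s := by
    rintro rfl
    have hsub : common D a d ⊆ insert u (common D a d ∩ perp D u) := fun y hy => by
      by_cases e : y = u
      · exact Or.inl e
      · exact Or.inr ⟨hy, hy.1.1, e, hall y hy⟩
    have h1 := (Set.ncard_le_ncard hsub).trans (Set.ncard_insert_le _ _)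
    rw [M24.mu B ha hd hnc, card_T B ha hd hnc hs] at h1
    omega
  have hsu : Commute s u := (hall s hs).symm
  have hus' : u ∈ perp D s := ⟨hu, hus, hsu⟩
  rcases M23.pin C qa qd qnc (pr D s u hus') (pr_mem hus') (fun q hq => by
      obtain ⟨y, hy, rfl⟩ := exists_of_mem hq.1.1
      exact commute_pr hus' hy (hall y (hmem hy hq))) with e | e | e
  · exact Or.inl (pr_injective h htf hs.1.1 hus' has e)
  · exact Or.inr (Or.inl (pr_injective h htf hs.1.1 hus' hds e))
  · refine Or.inr (Or.inr ?_)
    have hw : a * d * a ∈ perp D s := by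
      have := perp_conj' h has.2.2.symm hds
      rwa [inv_eq h.1 ha] at this
    refine pr_injective h htf hs.1.1 hus' hw (e.trans ?_)
    rfl

theorem width : HasWidth (common D a d) 8 := by
  refine HasWidth.step (B.meets a ha d hd hnc) fun s hs => ?_
  have h := B.set.cls
  have htf := B.set.tf
  have has := M22.perp_symm ha hs.1
  have hds := M22.perp_symm hd hs.2
  have C := B.sub s hs.1.1
  have qnc : ¬ Commute (pr D s a has) (pr D s d hds) := fun k => hnc (commute_of_pr h htf hs.1.1 has hds k)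
  obtain ⟨⟨E, hE, hc, hn⟩, hle⟩ := M23.width C (pr_mem has) (pr_mem hds) qnc
  have down : ∀ {y}, y ∈ {u | u ∈ common D a d ∧ u ≠ s ∧ Commute s u} → ∃ hy : y ∈ perp D s,
      pr D s y hy ∈ common (perpSet D s) (pr D s a has) (pr D s d hds) := fun {y} k =>
    have hy : y ∈ perp D s := ⟨k.1.1.1, k.2.1, k.2.2⟩
    ⟨hy, (M24.toK B hs.1.1 has hy).mpr k.1.1, (M24.toK B hs.1.1 hds hy).mpr k.1.2⟩
  constructor
  · let C' : Set G := {y | ∃ hy : y ∈ perp D s, pr D s y hy ∈ E}
    refine ⟨C', ?_, ?_, ?_⟩
    · rintro y ⟨hy, k⟩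
      exact ⟨⟨(M24.toK B hs.1.1 has hy).mp (hE k).1, (M24.toK B hs.1.1 hds hy).mp (hE k).2⟩, hy.2.1, hy.2.2⟩
    · rintro x ⟨hx, kx⟩ y ⟨hy, ky⟩
      exact commute_of_pr h htf hs.1.1 hx hy (hc _ kx _ ky)
    · rw [← hn]
      exact Set.ncard_congr (fun y hy => pr D s y hy.1) (fun y hy => hy.2)
        (fun x y hx hy e => pr_injective h htf hs.1.1 hx.1 hy.1 e) fun q hq => by
        obtain ⟨y, hy, rfl⟩ := exists_of_mem (hE hq).1.1
        exact ⟨y, ⟨hy, hq⟩, rfl⟩
  · intro C' hC' hcc
    let E' : Set (PerpQuot D s) := {q | ∃ (y : G) (hy : y ∈ C'), pr D s y (down (hC' hy)).1 = q}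
    have hcard : C'.ncard = E'.ncard := Set.ncard_congr (fun y hy => pr D s y (down (hC' hy)).1)
      (fun y hy => ⟨y, hy, rfl⟩)
      (fun x y hx hy e => pr_injective h htf hs.1.1 _ _ e) (fun q ⟨y, hy, e⟩ => ⟨y, hy, e⟩)
    rw [hcard]
    refine hle E' ?_ ?_
    · rintro q ⟨y, hy, rfl⟩
      exact (down (hC' hy)).2
    · rintro q ⟨x, hx, rfl⟩ r ⟨y, hy, rfl⟩
      exact commute_pr _ _ (hcc x hx y hy)

theorem card_pair_eq : Nat.card ↥(Subgroup.centralizer ({a, d} : Set G)) = 6 * 4952179814400 := by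
  have h := card_pair B.set.cls ha hd hnc fun u hu k => apart_pair_conj B.set ha hd hnc ha hu k
  rw [M24.apart_card B ha, M24.centralizer_eq B ha, M24.card_perpGroup B ha] at h
  omega

set_option maxRecDepth 4000 in
/-- A normal simple subgroup with symmetric quotient of degree three has trivial centraliser. -/
theorem centralizer_simple {K : Subgroup G} (hK : K = Subgroup.closure (common D a d))
    (hcen : Subgroup.center ↥K = ⊥) (N : Subgroup ↥K) [N.Normal] (hs : IsSimpleGroup N)
    (hna : ¬ IsMulCommutative N) (e : ↥K ⧸ N ≃* Equiv.Perm (Fin 3)) :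
    Subgroup.centralizer (N : Set ↥K) = ⊥ := by
  classical
  have h := B.set.cls
  set C := Subgroup.centralizer (N : Set ↥K)
  let φ : ↥K →* Equiv.Perm (Fin 3) := e.toMonoidHom.comp (QuotientGroup.mk' N)
  haveI := hs
  have hφ : ∀ z ∈ C, φ z = 1 → z = 1 := fun z hz hz1 => by
    have hzN : z ∈ N := (QuotientGroup.eq_one_iff z).mp (e.injective (hz1.trans (map_one e).symm))
    rcases (inferInstance : (Subgroup.center N).Normal).eq_bot_or_eq_top with k | k
    · have : (⟨z, hzN⟩ : N) ∈ Subgroup.center N := Subgroup.mem_center_iff.mpr fun g =>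
        Subtype.ext (Subgroup.mem_centralizer_iff.mp hz g g.2)
      rw [k, Subgroup.mem_bot] at this
      exact congrArg Subtype.val this
    · exact absurd ⟨⟨fun p q => (Subgroup.mem_center_iff.mp (k.symm ▸ Subgroup.mem_top q) p)⟩⟩ hna
  by_contra hne
  obtain ⟨z, hz, hz1⟩ := (C.bot_or_exists_ne_one).resolve_left hne
  obtain ⟨τ, w1, w3⟩ := (by decide : ∀ σ : Equiv.Perm (Fin 3), σ ≠ 1 →
    ∃ τ : Equiv.Perm (Fin 3), τ * σ * τ⁻¹ * σ⁻¹ ≠ 1 ∧ (τ * σ * τ⁻¹ * σ⁻¹) ^ 3 = 1) (φ z) fun k => hz1 (hφ z hz k)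
  obtain ⟨k, rfl⟩ : ∃ k, φ k = τ := by
    obtain ⟨k, hk⟩ := QuotientGroup.mk'_surjective N (e.symm τ)
    exact ⟨k, by show e (QuotientGroup.mk' N k) = τ; rw [hk, MulEquiv.apply_symm_apply]⟩
  set w := k * z * k⁻¹ * z⁻¹ with hwdef
  rw [← map_inv, ← map_inv, ← map_mul, ← map_mul, ← map_mul, ← hwdef] at w1 w3
  have hw : w ∈ C := mul_mem ((inferInstance : C.Normal).conj_mem z hz k) (inv_mem hz)
  have hw3 : w ^ 3 = 1 := hφ _ (pow_mem hw 3) (by rw [map_pow]; exact w3)
  have hnorm : ∀ u : ↥K, u * w * u⁻¹ = w ∨ u * w * u⁻¹ = w * w := by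
    intro u
    have hu : u * w * u⁻¹ ∈ C := (inferInstance : C.Normal).conj_mem w hw u
    have eq_of : ∀ v ∈ C, φ (u * w * u⁻¹) = φ v → u * w * u⁻¹ = v := fun v hv ev => by
      have := hφ _ (mul_mem hu (inv_mem hv)) (by rw [map_mul, ev, ← map_mul, mul_inv_cancel, map_one])
      exact mul_inv_eq_one.mp this
    rcases (by decide : ∀ v u : Equiv.Perm (Fin 3), v ≠ 1 → v ^ 3 = 1 →
      u * v * u⁻¹ = v ∨ u * v * u⁻¹ = v * v) (φ w) (φ u) w1 w3 with r | r
    · exact Or.inl (eq_of w hw (by simpa using r))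
    · exact Or.inr (eq_of _ (mul_mem hw hw) (by simpa using r))
  -- in the group
  set t : G := (w : G) with htdef
  have ht3 : t * t * t = 1 := by
    have := congrArg Subtype.val hw3
    simpa [pow_succ] using this
  have ht1 : t ≠ 1 := fun k => w1 (by rw [show w = 1 from Subtype.ext k, map_one])
  have hflip : ∀ y ∈ common D a d, y * t * y = t ∨ y * t * y = t * t := fun y hy => by
    rcases hnorm ⟨y, hK ▸ Subgroup.subset_closure hy⟩ with r | r <;> have r' := congrArg Subtype.val r <;>
      simp only [Subgroup.coe_mul, Subgroup.coe_inv, inv_eq h.1 hy.1.1] at r'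
    exacts [Or.inl r', Or.inr r']
  have htt : t * t ≠ t := fun k => ht1 (mul_eq_left.mp k)
  have ht_comm : ∀ {y}, y ∈ D → y * t * y = t → Commute y t := fun {y} hy k => by
    have := congrArg (· * y) k
    show y * t = t * y
    simpa [mul_assoc, mul_self h.1 hy] using this
  obtain ⟨x, hx, hxt⟩ : ∃ x ∈ common D a d, x * t * x = t * t := by
    by_contra hno
    push Not at hno
    have hle : K ≤ Subgroup.centralizer ({t} : Set G) := hK ▸ (Subgroup.closure_le _).mpr fun y hy =>
      Subgroup.mem_centralizer_singleton_iff.mpr (ht_comm hy.1.1 ((hflip y hy).resolve_right (hno y hy))).eq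
    have : w ∈ Subgroup.center ↥K := Subgroup.mem_center_iff.mpr fun g => Subtype.ext
      (Subgroup.mem_centralizer_singleton_iff.mp (hle g.2))
    rw [hcen, Subgroup.mem_bot] at this
    exact ht1 (by rw [htdef, this]; rfl)
  -- two commuting members cannot both be moved
  have two : ∀ {x y}, x ∈ common D a d → y ∈ common D a d → x * t * x = t * t → y * t * y = t * t →
      x ≠ y → ¬ Commute x y := by
    intro x y hx hy hxt hyt hne k
    have xx := mul_self h.1 hx.1.1
    have yy := mul_self h.1 hy.1.1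
    have hti : t⁻¹ = t * t := inv_eq_of_mul_eq_one_left ht3
    set x' := t * x * t⁻¹ with hx'
    have hx'D : x' ∈ D := conj_mem h t hx.1.1
    have e1 : x * x' = t := by
      rw [hx', hti]
      calc x * (t * x * (t * t)) = x * t * x * (t * t) := by simp only [mul_assoc]
        _ = t * t * t * t := by rw [hxt]; simp only [mul_assoc]
        _ = t := by rw [ht3, one_mul]
    have e2 : x' * x = t * t := by
      rw [← hti, ← e1, mul_inv_rev, inv_eq h.1 hx'D, inv_eq h.1 hx.1.1]
    have napart : ¬ Commute x x' := fun k' => htt (by rw [← e2, k'.symm.eq, e1])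
    have e3 : y * x' * y = x * x' * x := by
      have : x * (y * x' * y) = x' * x := by
        rw [e2, ← hyt, ← e1]
        simp only [← mul_assoc]
        rw [k.eq]
      calc y * x' * y = x * (x * (y * x' * y)) := by rw [← mul_assoc x, xx, one_mul]
        _ = x * x' * x := by rw [this, ← mul_assoc x x' x]
    by_cases ky : Commute y x'
    · rw [ky.eq, mul_assoc, yy, mul_one] at e3
      refine napart ?_
      have := congrArg (x * ·) e3
      simp only [← mul_assoc, xx, one_mul] at this
      exact this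
    · rw [braid h.1 hy.1.1 hx'D ky, braid h.1 hx.1.1 hx'D napart] at e3
      exact hne (mul_left_cancel (mul_right_cancel e3)).symm
  have mixed : ∀ {x y}, x ∈ common D a d → y ∈ common D a d → x * t * x = t * t → y * t * y = t →
      Commute x y := by
    intro x y hx hy hxt hyt
    by_contra k
    have xx := mul_self h.1 hx.1.1
    have b := braid h.1 hy.1.1 hx.1.1 fun k' => k k'.symm
    have e2 : y * (t * t) * y = t * t := by
      have c := ht_comm hy.1.1 hyt
      rw [(c.mul_right c).eq, mul_assoc, mul_self h.1 hy.1.1, mul_one]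
    have e3 : x * (t * t) * x = t := by
      rw [← hxt]
      simp only [← mul_assoc, xx, one_mul]
      rw [mul_assoc, xx, mul_one]
    have m1 : y * x * y * t * (y * x * y) = t * t := by
      calc y * x * y * t * (y * x * y) = y * (x * (y * t * y) * x) * y := by simp only [mul_assoc]
        _ = t * t := by rw [hyt, hxt, e2]
    have m2 : x * y * x * t * (x * y * x) = t := by
      calc x * y * x * t * (x * y * x) = x * (y * (x * t * x) * y) * x := by simp only [mul_assoc]
        _ = t := by rw [hxt, e2, e3]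
    rw [b] at m1
    exact htt (m1.symm.trans m2)
  obtain ⟨y, hy⟩ := Set.nonempty_of_ncard_ne_zero (s := common D a d ∩ perp D x)
    (by rw [card_T B ha hd hnc hx]; norm_num)
  have hyt : y * t * y = t :=
    (hflip y hy.1).resolve_right fun k => two hx hy.1 hxt k (Ne.symm hy.2.2.1) hy.2.2.2
  have hsub : common D a d ⊆ insert x (insert y ((common D a d ∩ perp D x) ∪ (common D a d ∩ perp D y))) := by
    intro u hu
    by_cases e1 : u = x
    · exact Or.inl e1
    by_cases e2 : u = y
    · exact Or.inr (Or.inl e2)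
    refine Or.inr (Or.inr ?_)
    rcases hflip u hu with r | r
    · exact Or.inl ⟨hu, hu.1.1, e1, mixed hx hu hxt r⟩
    · exact Or.inr ⟨hu, hu.1.1, e2, (mixed hu hy.1 r hyt).symm⟩
  have h1 := Set.ncard_le_ncard hsub
  have h2 := Set.ncard_insert_le x (insert y ((common D a d ∩ perp D x) ∪ (common D a d ∩ perp D y)))
  have h3 := Set.ncard_insert_le y ((common D a d ∩ perp D x) ∪ (common D a d ∩ perp D y))
  have h4 := Set.ncard_union_le (common D a d ∩ perp D x) (common D a d ∩ perp D y)
  rw [M24.mu B ha hd hnc] at h1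
  rw [card_T B ha hd hnc hx, card_T B ha hd hnc hy.1] at h4
  omega

end Cfsg.Agent.Fus.ThreeA.M24
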