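import Cfsg.Agent.Lib.Fus.ThreeA.M22
import Cfsg.Agent.Lib.Block.FischerTypes.M23Order

/-! The pair of apart transpositions in type M(23). -/

set_option autoImplicit false
set_option linter.style.haveILetI false
set_option linter.unusedSectionVars false

namespace Cfsg.Agent.Fus.ThreeA.M23

open Cfsg Cfsg.Agent.Spor.ThreeTrans Cfsg.Agent.Block.FischerTypes

variable {G : Type*} [Group G] [Finite G] {D : Set G} (B : M23.Base D) {a d : G} (ha : a ∈ D) (hd : d ∈ D)
  (hnc : ¬ Commute a d)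
include B ha hd hnc

theorem pin : Pin D a d := by
  intro u hu hall
  have h := B.set.cls
  have htf := B.set.tf
  obtain ⟨s, hs⟩ := B.meets a ha d hd hnc
  have has := M22.perp_symm ha hs.1
  have hds := M22.perp_symm hd hs.2
  have C := B.ctx s hs.1.1
  have qa : pr D s a has ∈ perpSet D s := pr_mem has
  have qd : pr D s d hds ∈ perpSet D s := pr_mem hds
  have qnc : ¬ Commute (pr D s a has) (pr D s d hds) := fun k => hnc (commute_of_pr h htf hs.1.1 has hds k)
  have hmem : ∀ {y} (hy : y ∈ perp D s), pr D s y hy ∈ common (perpSet D s) (pr D s a has) (pr D s d hds) →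
      y ∈ common D a d := fun {y} hy k =>
    ⟨(M23.toK B hs.1.1 has hy).mp k.1, (M23.toK B hs.1.1 hds hy).mp k.2⟩
  have hus : u ≠ s := by
    rintro rfl
    have hK := M23.counts B
    obtain ⟨z, hz⟩ := Set.nonempty_of_ncard_ne_zero (s := common D a d ∩ perp D u)
      (by rw [M23.card_T B hK ha hd hnc hs]; omega)
    obtain ⟨y, hy, -⟩ := Set.nonempty_of_ncard_ne_zero
      (s := {y ∈ {y ∈ common D a d | ¬ Commute u y} | Commute z y})
      (by rw [M23.card_Z B hK ha hd hnc hs hz.1 hz.2]; omega)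
    exact hy.2 (hall y hy.1)
  have hsu : Commute s u := (hall s hs).symm
  have hus' : u ∈ perp D s := ⟨hu, hus, hsu⟩
  rcases M22.pin C qa qd qnc (pr D s u hus') (pr_mem hus') (fun q hq => by
      obtain ⟨y, hy, rfl⟩ := exists_of_mem hq.1.1
      exact commute_pr hus' hy (hall y (hmem hy hq))) with e | e | e
  · exact Or.inl (pr_injective h htf hs.1.1 hus' has e)
  · exact Or.inr (Or.inl (pr_injective h htf hs.1.1 hus' hds e))
  · refine Or.inr (Or.inr ?_)
    have hw : a * d * a ∈ perp D s := by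
      have := perp_conj' h has.2.2.symm hds
      rwa [inv_eq h.1 ha] at this
    refine pr_injective h htf hs.1.1 hus' hw (e.trans ?_)
    rfl

theorem width : HasWidth (common D a d) 7 := by
  refine HasWidth.step (B.meets a ha d hd hnc) fun s hs => ?_
  have h := B.set.cls
  have htf := B.set.tf
  have has := M22.perp_symm ha hs.1
  have hds := M22.perp_symm hd hs.2
  have C := B.ctx s hs.1.1
  have qnc : ¬ Commute (pr D s a has) (pr D s d hds) := fun k => hnc (commute_of_pr h htf hs.1.1 has hds k)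
  obtain ⟨⟨E, hE, hc, hn⟩, hle⟩ := M22.width C (pr_mem has) (pr_mem hds) qnc
  have down : ∀ {y}, y ∈ {u | u ∈ common D a d ∧ u ≠ s ∧ Commute s u} → ∃ hy : y ∈ perp D s,
      pr D s y hy ∈ common (perpSet D s) (pr D s a has) (pr D s d hds) := fun {y} k =>
    have hy : y ∈ perp D s := ⟨k.1.1.1, k.2.1, k.2.2⟩
    ⟨hy, (M23.toK B hs.1.1 has hy).mpr k.1.1, (M23.toK B hs.1.1 hds hy).mpr k.1.2⟩
  constructor
  · let C' : Set G := {y | ∃ hy : y ∈ perp D s, pr D s y hy ∈ E}
    refine ⟨C', ?_, ?_, ?_⟩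
    · rintro y ⟨hy, k⟩
      exact ⟨⟨(M23.toK B hs.1.1 has hy).mp (hE k).1, (M23.toK B hs.1.1 hds hy).mp (hE k).2⟩, hy.2.1, hy.2.2⟩
    · rintro x ⟨hx, kx⟩ y ⟨hy, ky⟩
      exact commute_of_pr h htf hs.1.1 hx hy (hc _ kx _ ky)
    · rw [← hn]
      exact Set.ncard_congr (fun y hy => pr D s y hy.1) (fun y hy => hy.2)
        (fun x y hx hy e => pr_injective h htf hs.1.1 hx.1 hy.1 e) fun q hq => by
        obtain ⟨y, hy, rfl⟩ := exists_of_mem (hE hq).1.1
        exact ⟨y, ⟨hy, hq⟩, rfl⟩
  · intro C' hC' hcc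
    let E' : Set (PerpQuot D s) := {q | ∃ (y : G) (hy : y ∈ C'), pr D s y (down (hC' hy)).1 = q}
    have hcard : C'.ncard = E'.ncard := Set.ncard_congr (fun y hy => pr D s y (down (hC' hy)).1)
      (fun y hy => ⟨y, hy, rfl⟩)
      (fun x y hx hy e => pr_injective h htf hs.1.1 _ _ e) (fun q ⟨y, hy, e⟩ => ⟨y, hy, e⟩)
    rw [hcard]
    refine hle E' ?_ ?_
    · rintro q ⟨y, hy, rfl⟩
      exact (down (hC' hy)).2
    · rintro q ⟨x, hx, rfl⟩ r ⟨y, hy, rfl⟩
      exact commute_pr _ _ (hcc x hx y hy)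

omit hd in
theorem card_apart : (apart D a).ncard = 28160 := by
  have hK := M23.counts B
  have hn := M23.total B ⟨a, ha⟩ hK
  have hp := M23.card_perp B ha (hK a ha)
  have e : D = insert a (perp D a) ∪ apart D a := by
    ext u
    constructor
    · intro hu
      by_cases k : Commute u a
      · by_cases e : u = a
        · exact Or.inl (Or.inl e)
        · exact Or.inl (Or.inr ⟨hu, e, k.symm⟩)
      · exact Or.inr ⟨hu, k⟩
    · rintro ((e | hu) | hu)
      exacts [e ▸ ha, hu.1, hu.1]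
  rw [e, Set.ncard_union_eq (Set.disjoint_left.mpr ?_) (Set.toFinite _) (Set.toFinite _),
    Set.ncard_insert_of_notMem (fun k => k.2.1 rfl) (Set.toFinite _), hp] at hn
  · omega
  · rintro u (e | hu) ⟨-, k⟩
    exacts [k (e ▸ Commute.refl a), k hu.2.2.symm]

theorem card_pair_eq : Nat.card ↥(Subgroup.centralizer ({a, d} : Set G)) = 4585351680 := by
  have h := card_pair B.set.cls ha hd hnc fun u hu k => apart_pair_conj B.set ha hd hnc ha hu k
  rw [card_apart B ha hnc, M23.centralizer_eq B ha, M23.card_perpGroup B ha] at h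
  omega

end Cfsg.Agent.Fus.ThreeA.M23
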