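import Cfsg.Agent.Lib.Fus.ThreeA.Basic

/-! Maximal sets of pairwise commuting members. -/

set_option autoImplicit false
set_option linter.style.haveILetI false

namespace Cfsg.Agent.Fus.ThreeA

variable {G : Type*} [Group G] [Finite G]

/-- The largest pairwise commuting subsets have `n` members. -/
def HasWidth (E : Set G) (n : ℕ) : Prop :=
  (∃ C ⊆ E, (∀ x ∈ C, ∀ y ∈ C, Commute x y) ∧ C.ncard = n) ∧
    ∀ C ⊆ E, (∀ x ∈ C, ∀ y ∈ C, Commute x y) → C.ncard ≤ n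

theorem HasWidth.eq {E : Set G} {n : ℕ} (h : HasWidth E n) : commutingWidth E = n := by
  obtain ⟨⟨C, hC, hc, hn⟩, hle⟩ := h
  refine le_antisymm (csSup_le ⟨0, ∅, by simp, Set.finite_empty, by simp, by simp⟩ ?_) ?_
  · rintro m ⟨C', hC', -, hc', rfl⟩
    exact hle C' hC' hc'
  · exact le_csSup ⟨n, by rintro m ⟨C', hC', -, hc', rfl⟩; exact hle C' hC' hc'⟩
      ⟨C, hC, Set.toFinite _, hc, hn⟩

/-- One step from the perpendiculars inside a set. -/
theorem HasWidth.step {E : Set G} {n : ℕ} (hne : E.Nonempty)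
    (h : ∀ s ∈ E, HasWidth {u | u ∈ E ∧ u ≠ s ∧ Commute s u} n) : HasWidth E (n + 1) := by
  obtain ⟨s, hs⟩ := hne
  obtain ⟨⟨C, hC, hc, hn⟩, -⟩ := h s hs
  refine ⟨⟨insert s C, ?_, ?_, ?_⟩, fun C' hC' hc' => ?_⟩
  · rintro u (rfl | hu)
    exacts [hs, (hC hu).1]
  · rintro x (rfl | hx) y (rfl | hy)
    exacts [Commute.refl _, (hC hy).2.2, (hC hx).2.2.symm, hc x hx y hy]
  · rw [Set.ncard_insert_of_notMem (fun k => (hC k).2.1 rfl) (Set.toFinite _), hn]
  · rcases C'.eq_empty_or_nonempty with rfl | ⟨t, ht⟩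
    · simp
    have := (h t (hC' ht)).2 (C' \ {t}) (fun u hu => ⟨hC' hu.1, hu.2, hc' t ht u hu.1⟩)
      fun x hx y hy => hc' x hx.1 y hy.1
    rw [Set.ncard_sdiff_singleton_of_mem ht] at this
    omega

end Cfsg.Agent.Fus.ThreeA
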