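import Cfsg.Agent.Lib.Block.FischerTypes.Setting
import Mathlib.GroupTheory.Perm.Fin

/-! The subgroup of order three generated by the product of two apart transpositions. -/

set_option autoImplicit false
set_option linter.style.haveILetI false
set_option linter.unusedSectionVars false

namespace Cfsg.Agent.Fus.ThreeA

open Cfsg Cfsg.Agent.Spor.ThreeTrans
open Cfsg.Agent.Block.FischerTypes (common)

variable {G : Type*} [Group G] [Finite G] {D : Set G}

/-- Only the three transpositions of the symmetric group commute with the whole common perpendicular. -/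
def Pin (D : Set G) (a d : G) : Prop :=
  ∀ u ∈ D, (∀ y ∈ common D a d, Commute u y) → u = a ∨ u = d ∨ u = a * d * a

variable (h : IsThreeTranspositionClass D) {a d : G} (ha : a ∈ D) (hd : d ∈ D) (hnc : ¬ Commute a d)

include hnc in
theorem common_eq : common D a d = {y : G | y ∈ D ∧ Commute a y ∧ Commute d y ∧ y ≠ a ∧ y ≠ d} := by
  ext y
  constructor
  · rintro ⟨h1, h2⟩
    exact ⟨h1.1, h1.2.2, h2.2.2, h1.2.1, h2.2.1⟩
  · rintro ⟨hy, h1, h2, h3, h4⟩
    exact ⟨⟨hy, h3, h1⟩, hy, h4, h2⟩

include h ha hd hnc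

theorem pow_three : (a * d) ^ 3 = 1 := pow_three_of_not_commute h ha hd hnc

theorem x_ne_one : a * d ≠ 1 := fun e => hnc (by
  rw [eq_inv_of_mul_eq_one_left e, inv_eq h.1 hd])

theorem zpow_cases {g : G} (hg : g ∈ Subgroup.zpowers (a * d)) :
    g = 1 ∨ g = a * d ∨ g = d * a := by
  obtain ⟨n, rfl⟩ := hg
  have h3 : (a * d) ^ (3 : ℤ) = 1 := by
    rw [show (3 : ℤ) = ((3 : ℕ) : ℤ) from rfl, zpow_natCast, pow_three h ha hd hnc]
  show (a * d) ^ n = 1 ∨ (a * d) ^ n = a * d ∨ (a * d) ^ n = d * a
  rw [← Int.emod_add_mul_ediv n 3, zpow_add, zpow_mul, h3, one_zpow, mul_one]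
  have h0 := Int.emod_nonneg n (show (3 : ℤ) ≠ 0 by norm_num)
  have h1 := Int.emod_lt_of_pos n (show (0 : ℤ) < 3 by norm_num)
  interval_cases hn : n % 3
  · exact Or.inl (zpow_zero _)
  · exact Or.inr (Or.inl (zpow_one _))
  · refine Or.inr (Or.inr ?_)
    rw [show (2 : ℤ) = -1 + 3 by norm_num, zpow_add, h3, mul_one, zpow_neg_one, mul_inv_rev,
      inv_eq h.1 ha, inv_eq h.1 hd]

/-- The members centralising the product are the common perpendicular. -/
theorem commute_x_iff {y : G} (hy : y ∈ D) : Commute y (a * d) ↔ y ∈ common D a d := by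
  refine ⟨fun k => ?_, fun k => k.1.2.2.symm.mul_right k.2.2.2.symm⟩
  have main : Commute y a := by
    by_contra hya
    by_cases hyd : Commute y d
    · refine hya ?_
      have := k.mul_right hyd
      rwa [mul_assoc, mul_self h.1 hd, mul_one] at this
    · have k1 : y * (a * d) * y = a * d := by rw [k.eq, mul_assoc, mul_self h.1 hy, mul_one]
      have e : a * y * (a * d) * y * d = a * d := by
        calc a * y * (a * d) * y * d = a * y * a * (d * y * d) := by simp [mul_assoc]
          _ = y * a * y * (y * d * y) := by rw [braid h.1 hy ha hya, braid h.1 hy hd hyd]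
          _ = y * (a * d) * y := by simp [mul_assoc, mul_self_mul h.1 hy]
          _ = a * d := k1
      have e' : a * d = 1 := by
        calc a * d = a * y * (a * d) * y * d := e.symm
          _ = a * (y * (a * d) * y) * d := by simp [mul_assoc]
          _ = a * (a * d) * d := by rw [k1]
          _ = 1 := by simp [mul_self_mul h.1 ha, mul_self h.1 hd]
      exact x_ne_one h ha hd hnc e'
  have hyd : Commute y d := by
    have := main.mul_right k
    rwa [mul_self_mul h.1 ha] at this
  exact ⟨⟨hy, fun e => hnc (e ▸ hyd), main.symm⟩, hy, fun e => hnc (e ▸ main).symm, hyd.symm⟩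

theorem centralizer_x : D ∩ (Subgroup.centralizer ((Subgroup.zpowers (a * d) : Subgroup G) : Set G) : Set G) =
    common D a d := by
  ext y
  refine ⟨fun ⟨hy, k⟩ => (commute_x_iff h ha hd hnc hy).mp
    (Subgroup.mem_centralizer_iff.mp k _ (Subgroup.mem_zpowers _)).symm, fun k => ⟨k.1.1, ?_⟩⟩
  refine Subgroup.mem_centralizer_iff.mpr fun g hg => ?_
  obtain ⟨n, rfl⟩ := hg
  exact (((commute_x_iff h ha hd hnc k.1.1).mpr k).zpow_right n).symm.eq

/-- Pairs with the same product have the same common perpendicular. -/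
theorem common_of_product {p q : G} (hp : p ∈ D) (hq : q ∈ D) (hpq : ¬ Commute p q)
    (e : p * q = a * d ∨ p * q = d * a) : common D p q = common D a d := by
  have key : ∀ {y}, y ∈ D → (Commute y (p * q) ↔ Commute y (a * d)) := by
    intro y _
    rcases e with e | e <;> rw [e]
    constructor <;> intro k <;> have := k.inv_right <;>
      rwa [mul_inv_rev, inv_eq h.1 ha, inv_eq h.1 hd] at this
  ext y
  constructor
  · intro hy
    exact (commute_x_iff h ha hd hnc hy.1.1).mp ((key hy.1.1).mp ((commute_x_iff h hp hq hpq hy.1.1).mpr hy))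
  · intro hy
    exact (commute_x_iff h hp hq hpq hy.1.1).mp ((key hy.1.1).mpr ((commute_x_iff h ha hd hnc hy.1.1).mpr hy))

/-- The elements of the symmetric group. -/
theorem mem_s {g : G} (hg : g ∈ Subgroup.closure ({a, d} : Set G)) :
    ∃ p ∈ Subgroup.zpowers (a * d), g = p ∨ g = p * a := by
  have hxa : ∀ p ∈ Subgroup.zpowers (a * d), a * p * a ∈ Subgroup.zpowers (a * d) := by
    intro p hp
    obtain ⟨n, rfl⟩ := hp
    show a * (a * d) ^ n * a ∈ _
    have e : a * (a * d) * a⁻¹ = (a * d)⁻¹ := by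
      rw [inv_eq h.1 ha, mul_self_mul h.1 ha, mul_inv_rev, inv_eq h.1 ha, inv_eq h.1 hd]
    have := conj_zpow (i := n) (a := a) (b := a * d)
    rw [e, inv_eq h.1 ha] at this
    rw [← this]
    exact Subgroup.zpow_mem _ (inv_mem (Subgroup.mem_zpowers _)) n
  induction hg using Subgroup.closure_induction with
  | mem g hg =>
    rcases hg with rfl | rfl
    · exact ⟨1, one_mem _, Or.inr (one_mul _).symm⟩
    · refine ⟨(a * g)⁻¹, inv_mem (Subgroup.mem_zpowers _), Or.inr ?_⟩
      rw [mul_inv_rev, inv_eq h.1 ha, inv_eq h.1 hd, mul_assoc, mul_self h.1 ha, mul_one]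
  | one => exact ⟨1, one_mem _, Or.inl rfl⟩
  | mul u v _ _ ihu ihv =>
    obtain ⟨p, hp, rfl | rfl⟩ := ihu <;> obtain ⟨q, hq, rfl | rfl⟩ := ihv
    · exact ⟨u * v, mul_mem hp hq, Or.inl rfl⟩
    · exact ⟨u * q, mul_mem hp hq, Or.inr (mul_assoc _ _ _).symm⟩
    · exact ⟨p * (a * v * a), mul_mem hp (hxa _ hq), Or.inr (by simp [mul_assoc, mul_self h.1 ha])⟩
    · exact ⟨p * (a * q * a), mul_mem hp (hxa _ hq), Or.inl (by simp [mul_assoc])⟩
  | inv u _ ih =>
    obtain ⟨p, hp, rfl | rfl⟩ := ih
    · exact ⟨u⁻¹, inv_mem hp, Or.inl rfl⟩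
    · exact ⟨a * p⁻¹ * a, hxa _ (inv_mem hp), Or.inr (by
        rw [mul_inv_rev, inv_eq h.1 ha, mul_assoc _ a a, mul_self h.1 ha, mul_one])⟩

theorem s_inf : Subgroup.closure ({a, d} : Set G) ⊓ Subgroup.centralizer ({a, d} : Set G) = ⊥ := by
  refine eq_bot_iff.mpr fun g ⟨hg, hc⟩ => Subgroup.mem_bot.mpr ?_
  have hga : Commute g a := (Subgroup.mem_centralizer_iff.mp hc a (Set.mem_insert _ _)).symm
  have hgd : Commute g d :=
    (Subgroup.mem_centralizer_iff.mp hc d (Set.mem_insert_of_mem _ rfl)).symm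
  obtain ⟨p, hp, e⟩ := mem_s h ha hd hnc hg
  have hpa : Commute p a := by
    rcases e with rfl | rfl
    · exact hga
    · have := hga.mul_left (Commute.refl a)
      rwa [mul_assoc, mul_self h.1 ha, mul_one] at this
  have hp1 : p = 1 := by
    rcases zpow_cases h ha hd hnc hp with rfl | rfl | rfl
    · rfl
    · exact absurd (((Commute.refl a).symm.mul_right hpa.symm)) (fun k => hnc (by
        rwa [mul_self_mul h.1 ha] at k))
    · exact absurd (hpa.symm.mul_right (Commute.refl a)) (fun k => hnc (by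
        rwa [mul_assoc, mul_self h.1 ha, mul_one] at k))
  rcases e with rfl | rfl
  · exact hp1
  · rw [hp1, one_mul] at hgd
    exact absurd hgd hnc

/-- The symmetric group of degree three. -/
theorem s_iso : ∃ (f : Fin 3 → G) (e : ↥(Subgroup.closure ({a, d} : Set G)) ≃* Equiv.Perm (Fin 3)),
    f 0 = a ∧ f 1 = d ∧ f 2 = a * d * a ∧ ∀ (s : ↥(Subgroup.closure ({a, d} : Set G))) i, (s : G) * f i * (s : G)⁻¹ = f (e s i) := by
  classical
  set S := Subgroup.closure ({a, d} : Set G) with hS
  have ed : d * a * d = a * d * a := (braid h.1 ha hd hnc).symm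
  have hda : a * d * a ≠ a := fun e => hnc (by
    have := congrArg (a * ·) e
    simp only [mul_assoc, mul_self_mul h.1 ha, mul_self h.1 ha] at this
    rw [eq_inv_of_mul_eq_one_left this, inv_eq h.1 ha])
  have hdd : a * d * a ≠ d := fun e => hnc (by
    have := congrArg (· * a) e
    simp only [mul_assoc, mul_self h.1 ha, mul_one] at this
    exact this)
  have hne : a ≠ d := fun e => hnc (e ▸ Commute.refl a)
  let f : Fin 3 → G := ![a, d, a * d * a]
  have hf : Function.Injective f := by
    intro i j e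
    fin_cases i <;> fin_cases j <;> simp [f, hne, hne.symm, hda, hda.symm, hdd, hdd.symm] at e ⊢
  have hperm : ∀ g ∈ S, ∃ σ : Equiv.Perm (Fin 3), ∀ i, g * f i * g⁻¹ = f (σ i) := by
    intro g hg
    induction hg using Subgroup.closure_induction with
    | mem g hg =>
      rcases hg with rfl | rfl
      · refine ⟨Equiv.swap 1 2, fun i => ?_⟩
        fin_cases i <;> simp [f, inv_eq h.1 ha, mul_assoc, mul_self h.1 ha, mul_self_mul h.1 ha,
          Equiv.swap_apply_def]
      · refine ⟨Equiv.swap 0 2, fun i => ?_⟩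
        fin_cases i
        · simp [f, inv_eq h.1 hd, ed]
        · show g * g * g⁻¹ = f ((Equiv.swap (0 : Fin 3) 2) 1)
          rw [show (Equiv.swap (0 : Fin 3) 2) 1 = 1 by decide]
          simp [f]
        · simp only [f, inv_eq h.1 hd, ← ed]
          simp [mul_assoc, mul_self h.1 hd, mul_self_mul h.1 hd]
    | one => exact ⟨1, fun i => by simp⟩
    | mul u v _ _ ihu ihv =>
      obtain ⟨σ, hσ⟩ := ihu
      obtain ⟨τ, hτ⟩ := ihv
      exact ⟨σ * τ, fun i => by
        rw [Equiv.Perm.mul_apply, ← hσ, ← hτ]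
        simp [mul_assoc]⟩
    | inv u _ ih =>
      obtain ⟨σ, hσ⟩ := ih
      refine ⟨σ⁻¹, fun i => ?_⟩
      have := hσ (σ⁻¹ i)
      rw [show σ (σ⁻¹ i) = i from σ.apply_symm_apply i] at this
      rw [← this]
      simp [mul_assoc]
  choose π hπ using hperm
  let φ : ↥S →* Equiv.Perm (Fin 3) := MonoidHom.mk' (fun s => π s s.2) fun u v =>
    Equiv.ext fun i => hf (by
      rw [← hπ _ _ i, Equiv.Perm.mul_apply, ← hπ _ _ _, ← hπ _ _ i]
      simp [mul_assoc])
  have hφ : ∀ (s : ↥S) i, (s : G) * f i * (s : G)⁻¹ = f (φ s i) := fun s i => hπ _ _ i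
  have hinj : Function.Injective φ := by
    refine (injective_iff_map_eq_one φ).mpr fun s hs => Subtype.ext ?_
    have hmem : (s : G) ∈ S ⊓ Subgroup.centralizer ({a, d} : Set G) := by
      refine ⟨s.2, Subgroup.mem_centralizer_iff.mpr fun y hy => ?_⟩
      have key : ∀ i, Commute (s : G) (f i) := fun i => by
        refine mul_inv_eq_iff_eq_mul.mp ?_
        rw [hφ, hs]
        rfl
      rcases hy with rfl | rfl
      · exact (key 0).symm.eq
      · exact (key 1).symm.eq
    exact Subgroup.mem_bot.mp (s_inf h ha hd hnc ▸ hmem :)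
  have hsurj : Function.Surjective φ := by
    have h0 : φ ⟨a, Subgroup.subset_closure (Set.mem_insert _ _)⟩ = Equiv.swap 1 2 := Equiv.ext fun i => hf (by
      rw [← hφ]
      fin_cases i <;> simp [f, inv_eq h.1 ha, mul_assoc, mul_self h.1 ha, mul_self_mul h.1 ha,
          Equiv.swap_apply_def])
    have h1 : φ ⟨d, Subgroup.subset_closure (Set.mem_insert_of_mem _ rfl)⟩ = Equiv.swap 0 2 := Equiv.ext fun i => hf (by
      rw [← hφ]
      fin_cases i
      · simp [f, inv_eq h.1 hd, ed]
      · show d * d * d⁻¹ = f ((Equiv.swap (0 : Fin 3) 2) 1)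
        rw [show (Equiv.swap (0 : Fin 3) 2) 1 = 1 by decide]
        simp [f]
      · simp only [f, inv_eq h.1 hd, ← ed]
        simp [mul_assoc, mul_self h.1 hd, mul_self_mul h.1 hd])
    have hgen : ∀ σ : Equiv.Perm (Fin 3), σ = 1 ∨ σ = Equiv.swap 1 2 ∨ σ = Equiv.swap 0 2 ∨
        σ = Equiv.swap 1 2 * Equiv.swap 0 2 ∨ σ = Equiv.swap 0 2 * Equiv.swap 1 2 ∨
        σ = Equiv.swap 1 2 * Equiv.swap 0 2 * Equiv.swap 1 2 := by decide
    intro σ
    let A : ↥S := ⟨a, Subgroup.subset_closure (Set.mem_insert _ _)⟩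
    let B : ↥S := ⟨d, Subgroup.subset_closure (Set.mem_insert_of_mem _ rfl)⟩
    have hA : φ A = Equiv.swap 1 2 := h0
    have hB : φ B = Equiv.swap 0 2 := h1
    rcases hgen σ with e | e | e | e | e | e
    exacts [⟨1, (map_one φ).trans e.symm⟩, ⟨A, hA.trans e.symm⟩, ⟨B, hB.trans e.symm⟩,
      ⟨A * B, by rw [map_mul, hA, hB, e]⟩, ⟨B * A, by rw [map_mul, hA, hB, e]⟩,
      ⟨A * B * A, by rw [map_mul, map_mul, hA, hB, e]⟩]
  exact ⟨f, MulEquiv.ofBijective φ ⟨hinj, hsurj⟩, rfl, rfl, rfl, hφ⟩

/-- The normaliser of the subgroup of order three. -/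
theorem main (hpin : Pin D a d)
    (hK : Subgroup.closure (common D a d) = Subgroup.centralizer ({a, d} : Set G)) :
    Subgroup.closure ({a, d} : Set G) ⊓ Subgroup.closure (common D a d) = ⊥ ∧
      (∀ x ∈ Subgroup.closure ({a, d} : Set G), ∀ y ∈ Subgroup.closure (common D a d), x * y = y * x) ∧
      Subgroup.closure ({a, d} : Set G) ⊔ Subgroup.closure (common D a d) =
        Subgroup.normalizer ((Subgroup.zpowers (a * d) : Subgroup G) : Set G) ∧
      Nonempty (↥(Subgroup.closure ({a, d} : Set G)) ≃* Equiv.Perm (Fin 3)) := by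
  obtain ⟨f, e, f0, f1, f2, hf⟩ := s_iso h ha hd hnc
  rw [hK]
  refine ⟨s_inf h ha hd hnc, fun x hx y hy => ?_, le_antisymm ?_ fun g hg => ?_, ⟨e⟩⟩
  · have hle : Subgroup.closure ({a, d} : Set G) ≤ Subgroup.centralizer {y} := by
      refine (Subgroup.closure_le _).mpr fun z hz => Subgroup.mem_centralizer_singleton_iff.mpr ?_
      exact Subgroup.mem_centralizer_iff.mp hy z hz
    exact Subgroup.mem_centralizer_singleton_iff.mp (hle hx)
  · refine sup_le ((Subgroup.closure_le _).mpr fun g hg => ?_) fun g hg => ?_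
    · refine Subgroup.mem_normalizer_iff.mpr ?_
      have hinv : g * (a * d) * g⁻¹ = (a * d)⁻¹ := by
        rw [mul_inv_rev, inv_eq h.1 ha, inv_eq h.1 hd]
        rcases hg with rfl | rfl
        · rw [inv_eq h.1 ha, mul_self_mul h.1 ha]
        · rw [inv_eq h.1 hd, mul_assoc, mul_assoc a g g, mul_self h.1 hd, mul_one]
      intro y
      constructor
      · rintro ⟨n, rfl⟩
        show g * (a * d) ^ n * g⁻¹ ∈ _
        rw [← conj_zpow, hinv]
        exact Subgroup.zpow_mem _ (inv_mem (Subgroup.mem_zpowers _)) n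
      · rintro ⟨n, hn⟩
        refine ⟨-n, ?_⟩
        show (a * d) ^ (-n) = y
        have hn' : g * y * g⁻¹ = (a * d) ^ n := hn.symm
        have hinv' : g⁻¹ * (a * d) * g = (a * d)⁻¹ := by
          calc g⁻¹ * (a * d) * g = g⁻¹ * (g * (a * d)⁻¹ * g⁻¹) * g := by
                congr 2
                have := congrArg Inv.inv hinv
                rw [inv_inv, mul_inv_rev, mul_inv_rev, inv_inv, ← mul_assoc] at this
                exact this.symm
            _ = (a * d)⁻¹ := by simp [mul_assoc]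
        have hy : y = g⁻¹ * (a * d) ^ n * g := by rw [← hn']; simp [mul_assoc]
        rw [hy, zpow_neg, ← inv_zpow, ← hinv']
        have := conj_zpow (i := n) (a := g⁻¹) (b := a * d)
        simpa using this
    · refine Subgroup.mem_normalizer_iff.mpr fun y => ?_
      have hgx : Commute g (a * d) :=
        (show Commute g a from (Subgroup.mem_centralizer_iff.mp hg a (Set.mem_insert _ _)).symm).mul_right
          (show Commute g d from (Subgroup.mem_centralizer_iff.mp hg d (Set.mem_insert_of_mem _ rfl)).symm)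
      constructor
      · rintro ⟨n, rfl⟩
        show g * (a * d) ^ n * g⁻¹ ∈ _
        rw [conj_self_eq (hgx.zpow_right n)]
        exact Subgroup.zpow_mem _ (Subgroup.mem_zpowers _) n
      · rintro ⟨n, hn⟩
        refine ⟨n, mul_left_cancel (a := g) (mul_right_cancel (b := g⁻¹) ?_)⟩
        show g * (a * d) ^ n * g⁻¹ = _
        rw [conj_self_eq (hgx.zpow_right n)]
        exact hn
  · set a' := g * a * g⁻¹ with ha'
    set d' := g * d * g⁻¹ with hd'
    have k1 : g * (a * d) * g⁻¹ ∈ Subgroup.zpowers (a * d) :=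
      (Subgroup.mem_normalizer_iff.mp hg _).mp (Subgroup.mem_zpowers _)
    have hprod : a' * d' = a * d ∨ a' * d' = d * a := by
      rw [ha', hd', show g * a * g⁻¹ * (g * d * g⁻¹) = g * (a * d) * g⁻¹ by simp [mul_assoc]]
      exact (zpow_cases h ha hd hnc k1).resolve_left fun e1 => x_ne_one h ha hd hnc (by
        have := congrArg (fun z => g⁻¹ * z * g) e1
        simpa [mul_assoc] using this)
    have hnc' : ¬ Commute a' d' := fun k => hnc ((commute_conj_iff g a d).mp k)
    have hcom := common_of_product h ha hd hnc (conj_mem h g ha) (conj_mem h g hd) hnc' hprod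
    have mem : ∀ u ∈ D, (∀ y ∈ common D a' d', Commute u y) → ∃ i, u = f i := by
      intro u hu k
      rcases hpin u hu (fun y hy => k y (hcom ▸ hy)) with e1 | e1 | e1
      exacts [⟨0, by rw [f0, e1]⟩, ⟨1, by rw [f1, e1]⟩, ⟨2, by rw [f2, e1]⟩]
    obtain ⟨i, hi⟩ := mem a' (conj_mem h g ha) fun y hy => hy.1.2.2
    obtain ⟨j, hj⟩ := mem d' (conj_mem h g hd) fun y hy => hy.2.2.2
    have hij : i ≠ j := fun k => hnc' (by rw [hi, hj, k])
    obtain ⟨σ, hσ0, hσ1⟩ : ∃ σ : Equiv.Perm (Fin 3), σ 0 = i ∧ σ 1 = j :=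
      (by decide : ∀ i j : Fin 3, i ≠ j → ∃ σ : Equiv.Perm (Fin 3), σ 0 = i ∧ σ 1 = j) i j hij
    obtain ⟨s, rfl⟩ := e.surjective σ
    have h0 : (s : G) * a * (s : G)⁻¹ = a' := by
      have := hf s 0
      rw [hσ0, ← hi] at this
      rwa [congrArg (fun z => (s : G) * z * (s : G)⁻¹) f0] at this
    have h1 : (s : G) * d * (s : G)⁻¹ = d' := by
      have := hf s 1
      rw [hσ1, ← hj] at this
      rwa [congrArg (fun z => (s : G) * z * (s : G)⁻¹) f1] at this
    have hk : (s : G)⁻¹ * g ∈ Subgroup.centralizer ({a, d} : Set G) := by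
      refine Subgroup.mem_centralizer_iff.mpr ?_
      rintro y (rfl | rfl)
      · have : (s : G)⁻¹ * g * y * ((s : G)⁻¹ * g)⁻¹ = y := by
          rw [show (s : G)⁻¹ * g * y * ((s : G)⁻¹ * g)⁻¹ = (s : G)⁻¹ * (g * y * g⁻¹) * s by simp [mul_assoc]]
          show (s : G)⁻¹ * a' * s = y
          rw [← h0]
          simp [mul_assoc]
        exact (mul_inv_eq_iff_eq_mul.mp this).symm
      · have : (s : G)⁻¹ * g * y * ((s : G)⁻¹ * g)⁻¹ = y := by
          rw [show (s : G)⁻¹ * g * y * ((s : G)⁻¹ * g)⁻¹ = (s : G)⁻¹ * (g * y * g⁻¹) * s by simp [mul_assoc]]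
          show (s : G)⁻¹ * d' * s = y
          rw [← h1]
          simp [mul_assoc]
        exact (mul_inv_eq_iff_eq_mul.mp this).symm
    have := mul_mem (Subgroup.mem_sup_left (T := Subgroup.centralizer ({a, d} : Set G)) s.2)
      (Subgroup.mem_sup_right (S := Subgroup.closure ({a, d} : Set G)) hk)
    rwa [mul_inv_cancel_left] at this

/-- The centraliser of the pair inside the centraliser of the first. -/
theorem card_pair
    (htr : ∀ u ∈ D, ¬ Commute a u → ∃ g : G, g * a * g⁻¹ = a ∧ g * d * g⁻¹ = u) :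
    Nat.card ↥(Subgroup.centralizer ({a, d} : Set G)) * (apart D a).ncard =
      Nat.card ↥(Subgroup.centralizer ({a} : Set G)) := by
  classical
  set C := Subgroup.centralizer ({a} : Set G) with hC
  let act : MulAction ↥C G := MulAction.compHom G (ConjAct.toConjAct.toMonoidHom.comp C.subtype)
  letI := act
  have hs : ∀ (g : ↥C) (u : G), g • u = (g : G) * u * (g : G)⁻¹ := fun g u => rfl
  have horb : MulAction.orbit ↥C d = apart D a := by
    ext u
    rw [MulAction.mem_orbit_iff]
    constructor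
    · rintro ⟨g, rfl⟩
      rw [hs]
      refine ⟨conj_mem h _ hd, fun k => hnc ?_⟩
      have e := conj_self_eq (Subgroup.mem_centralizer_singleton_iff.mp g.2 : Commute (g : G) a)
      rw [← e] at k
      exact ((commute_conj_iff _ _ _).mp k).symm
    · rintro ⟨hu, hne⟩
      obtain ⟨g, e1, e2⟩ := htr u hu fun k => hne k.symm
      exact ⟨⟨g, Subgroup.mem_centralizer_singleton_iff.mpr (mul_inv_eq_iff_eq_mul.mp e1)⟩, e2⟩
  have hst : MulAction.stabilizer ↥C d = (Subgroup.centralizer ({a, d} : Set G)).subgroupOf C := by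
    ext g
    rw [MulAction.mem_stabilizer_iff, hs, Subgroup.mem_subgroupOf, Subgroup.mem_centralizer_iff,
      mul_inv_eq_iff_eq_mul]
    constructor
    · rintro k y (rfl | rfl)
      · exact (Subgroup.mem_centralizer_singleton_iff.mp g.2).symm
      · exact k.symm
    · intro k
      exact (k d (Set.mem_insert_of_mem _ rfl)).symm
  have := Subgroup.card_mul_index (MulAction.stabilizer ↥C d)
  rw [MulAction.index_stabilizer, horb, hst] at this
  rwa [Nat.card_congr (Subgroup.subgroupOfEquivOfLe (H := Subgroup.centralizer ({a, d} : Set G)) (K := C)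
    (Subgroup.centralizer_le (Set.singleton_subset_iff.mpr (Set.mem_insert _ _)))).toEquiv] at this

theorem common_le : Subgroup.closure (common D a d) ≤ Subgroup.centralizer ({a, d} : Set G) := by
  refine (Subgroup.closure_le _).mpr fun y hy => Subgroup.mem_centralizer_iff.mpr ?_
  rintro z (rfl | rfl)
  exacts [hy.1.2.2.eq, hy.2.2.2.eq]

end Cfsg.Agent.Fus.ThreeA
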