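import Cfsg.Agent.Lib.Block.FischerTypes.U6Code.Checks

/-! Cliques among the points orthogonal to two points that are not orthogonal. -/

set_option autoImplicit false
set_option maxRecDepth 100000
set_option maxHeartbeats 4000000

namespace Cfsg.Agent.Fus.ThreeA

open Cfsg.Agent.Block.FischerTypes.U6Code

/-- The points orthogonal to the base pair and to two further points. -/
def cl (v w : ℕ) : List ℕ := wList.filter fun x => adj v x && adj w x

theorem cl_le : (wList.all fun v => wList.all fun w => Nat.beq v w || !(adj v w) || Nat.ble (cl v w).length 5) = true := by
  decide +kernel

theorem cl_ex : (wList.any fun v => wList.any fun w => Nat.beq (cl v w).length 5 &&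
    (cl v w).all fun x => (cl v w).all fun y => adj x y) = true := by
  decide +kernel

end Cfsg.Agent.Fus.ThreeA
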