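import Cfsg.Agent.Lib.Fus.ThreeA.Width
import Cfsg.Agent.Lib.Fus.ThreeA.Code
import Cfsg.Agent.Lib.Block.FischerTypes.M23Centralizer
import Cfsg.Agent.Lib.Block.FischerTypes.M22Counts

/-! The pair of apart transpositions in type M(22). -/

set_option autoImplicit false
set_option linter.style.haveILetI false
set_option linter.unusedSectionVars false

namespace Cfsg.Agent.Fus.ThreeA.M22

open Cfsg Cfsg.Agent.Spor.ThreeTrans Cfsg.Agent.Block.FischerTypes

variable {G : Type*} [Group G] [Finite G] {D : Set G} (C : M22.Ctx D) {a d : G} (ha : a ∈ D) (hd : d ∈ D)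
  (hnc : ¬ Commute a d)
include C ha hd hnc

theorem pin : Pin D a d := by
  intro u hu hall
  have hN := M22.numbered_ctx C
  by_cases hau : Commute a u
  · by_cases hua : u = a
    · exact Or.inl hua
    by_cases hdu : Commute d u
    · by_cases hud : u = d
      · exact Or.inr (Or.inl hud)
      have hmem : u ∈ common D a d := ⟨⟨hu, hua, hau⟩, hu, hud, hdu⟩
      obtain ⟨x, hx, hux⟩ := apart_in_common C.set hN ha hd hnc hmem
      exact absurd (hall x hx) hux
    rcases M22.third C hd ha hu (fun k => hnc k.symm) hdu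
      (fun w hw => (hall w ⟨hw.2, hw.1⟩).symm) with e | e | e
    · exact Or.inr (Or.inl e)
    · exact Or.inl e
    · exact Or.inr (Or.inr (e.trans (braid C.set.cls.1 hd ha fun k => hnc k.symm)))
  · exact M22.third C ha hd hu hnc hau fun w hw => (hall w hw).symm

theorem width_inner {s : G} (hs : s ∈ common D a d) :
    HasWidth {u | u ∈ common D a d ∧ u ≠ s ∧ Commute s u} 5 := by
  classical
  have hN := M22.numbered_ctx C
  obtain ⟨M₀⟩ := hN s hs.1.1
  obtain ⟨h1, h2⟩ := common_perp C.set hnc ha hd hs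
  obtain ⟨M, hMa, hMd⟩ := M₀.exists_apart C.set.cls h1 h2 hnc
  have hw : ∀ c ∈ U6Code.wList, U6Code.isPt c = true ∧
      M.pt c ∈ {u | u ∈ common D a d ∧ u ≠ s ∧ Commute s u} := by
    intro c hc
    rw [U6Code.wList, List.mem_filter, Bool.and_eq_true] at hc
    have hp := U6Code.mem_ptList.mp hc.1
    refine ⟨hp, (mem_common_iff C.set hnc hs).mp ⟨M.mem c hp, ?_, ?_⟩⟩
    · rw [← hMa]; exact (M.comm _ _ U6Code.Model.pt_b0 hp).mpr hc.2.1
    · rw [← hMd]; exact (M.comm _ _ U6Code.Model.pt_c0 hp).mpr hc.2.2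
  have inW : ∀ {u}, u ∈ {u | u ∈ common D a d ∧ u ≠ s ∧ Commute s u} →
      ∃ c ∈ U6Code.wList, M.pt c = u := by
    intro u hu
    obtain ⟨k1, k2, k3⟩ := (mem_common_iff C.set hnc hs).mpr hu
    obtain ⟨c, hc, rfl⟩ := M.surj u k1
    refine ⟨c, ?_, rfl⟩
    rw [U6Code.wList, List.mem_filter, Bool.and_eq_true]
    rw [← hMa] at k2
    rw [← hMd] at k3
    exact ⟨U6Code.mem_ptList.mpr hc, (M.comm _ _ U6Code.Model.pt_b0 hc).mp k2,
      (M.comm _ _ U6Code.Model.pt_c0 hc).mp k3⟩
  constructor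
  · have hex := cl_ex
    simp only [List.any_eq_true, Bool.and_eq_true, List.all_eq_true] at hex
    obtain ⟨v, -, w, -, hlen, hadj⟩ := hex
    have hm : ∀ c ∈ cl v w, c ∈ U6Code.wList := fun c hc => (List.mem_filter.mp hc).1
    refine ⟨M.pt '' (↑(cl v w).toFinset : Set ℕ), ?_, ?_, ?_⟩
    · rintro _ ⟨c, hc, rfl⟩
      exact (hw c (hm c (List.mem_toFinset.mp hc))).2
    · rintro _ ⟨c, hc, rfl⟩ _ ⟨c', hc', rfl⟩
      have k := List.mem_toFinset.mp hc
      have k' := List.mem_toFinset.mp hc'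
      exact (M.comm c c' (hw c (hm c k)).1 (hw c' (hm c' k')).1).mpr (hadj c k c' k')
    · have hnd : (cl v w).Nodup := (U6Code.Model.nodup_ptList.filter _).filter _
      rw [Set.InjOn.ncard_image, Set.ncard_coe_finset, List.toFinset_card_of_nodup hnd,
        Nat.eq_of_beq_eq_true hlen]
      exact fun c hc c' hc' e => M.inj c c' (hw c (hm c (List.mem_toFinset.mp hc))).1
        (hw c' (hm c' (List.mem_toFinset.mp hc'))).1 e
  · intro E hE hc
    by_contra hlt
    push Not at hlt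
    obtain ⟨u, hu, v, hv, huv⟩ := (Set.one_lt_ncard).mp (show 1 < E.ncard by omega)
    obtain ⟨cu, hcu, rfl⟩ := inW (hE hu)
    obtain ⟨cv, hcv, rfl⟩ := inW (hE hv)
    have hsub : E ⊆ M.pt '' (↑(cl cu cv).toFinset : Set ℕ) := by
      intro x hx
      obtain ⟨c, hcw, rfl⟩ := inW (hE hx)
      refine ⟨c, List.mem_toFinset.mpr (List.mem_filter.mpr ⟨hcw, ?_⟩), rfl⟩
      rw [Bool.and_eq_true]
      exact ⟨(M.comm _ _ (hw cu hcu).1 (hw c hcw).1).mp (hc _ hu _ hx),
        (M.comm _ _ (hw cv hcv).1 (hw c hcw).1).mp (hc _ hv _ hx)⟩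
    have h5 : (cl cu cv).length ≤ 5 := by
      have := cl_le
      simp only [List.all_eq_true, Bool.or_eq_true, Bool.not_eq_true'] at this
      rcases this cu hcu cv hcv with (k | k) | k
      · exact absurd (congrArg M.pt (Nat.eq_of_beq_eq_true k)) huv
      · rw [(M.comm _ _ (hw cu hcu).1 (hw cv hcv).1).mp (hc _ hu _ hv)] at k
        exact absurd k (by simp)
      · exact Nat.le_of_ble_eq_true k
    have h1 := (Set.ncard_le_ncard hsub).trans Set.ncard_image_le
    rw [Set.ncard_coe_finset] at h1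
    have := List.toFinset_card_le (cl cu cv)
    omega

theorem width : HasWidth (common D a d) 6 :=
  HasWidth.step (C.meets a ha d hd hnc) fun _ hs => width_inner C ha hd hnc hs

theorem card_pair_eq : Nat.card ↥(Subgroup.centralizer ({a, d} : Set G)) = 6531840 := by
  have hN := M22.numbered_ctx C
  have h := card_pair C.set.cls ha hd hnc fun u hu k => apart_pair_conj C.set ha hd hnc ha hu k
  rw [(card_apart_common C.set hN C.meets).2 a ha, M22.card_centralizer C ha] at h
  omega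

/-- The group of the common perpendicular is transitive on its apart pairs. -/
theorem common_pair {p q p' q' : G} (hp : p ∈ common D a d) (hq : q ∈ common D a d) (hpq : ¬ Commute p q)
    (hp' : p' ∈ common D a d) (hq' : q' ∈ common D a d) (hpq' : ¬ Commute p' q') :
    ∃ k ∈ Subgroup.closure (common D a d), k * p * k⁻¹ = p' ∧ k * q * k⁻¹ = q' := by
  have hN := M22.numbered_ctx C
  have S := C.set
  obtain ⟨k₁, hk₁, rfl⟩ := common_conj_trans S hN ha hd hnc hp hp'
  obtain ⟨ka, kd⟩ := closure_common_commute hk₁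
  have hx : k₁ * q * k₁⁻¹ ∈ common D a d := conj_common S ha hd hnc ka kd hq
  have hsx : ¬ Commute (k₁ * p * k₁⁻¹) (k₁ * q * k₁⁻¹) := fun e => hpq ((commute_conj_iff k₁ p q).mp e)
  obtain ⟨t, ht, e⟩ := transitive_apart (cqSet_hyp S hN ha hd hnc ⟨_, hp'⟩)
    (x := cq D a d _ hp') ⟨_, hp', rfl⟩
    (a₀ := cq D a d _ hx) ⟨⟨_, hx, rfl⟩, fun k => hsx (commute_of_cq S hN ha hd hnc hx hp' k).symm⟩
    (b₀ := cq D a d _ hq') ⟨⟨_, hq', rfl⟩, fun k => hpq' (commute_of_cq S hN ha hd hnc hq' hp' k).symm⟩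
  have hts := localGroup_commute ht
  obtain ⟨⟨g, hg⟩, rfl⟩ := QuotientGroup.mk_surjective t
  obtain ⟨h1, h2⟩ := closure_common_commute hg
  have es : g * (k₁ * p * k₁⁻¹) * g⁻¹ = k₁ * p * k₁⁻¹ :=
    cq_injective S hN ha hd hnc (conj_common S ha hd hnc h1 h2 hp') hp'
      (show QuotientGroup.mk ⟨g, hg⟩ * cq D a d _ hp' * (QuotientGroup.mk ⟨g, hg⟩)⁻¹ = cq D a d _ hp' from
        conj_self_eq hts)
  have ex : g * (k₁ * q * k₁⁻¹) * g⁻¹ = q' := cq_injective S hN ha hd hnc (conj_common S ha hd hnc h1 h2 hx) hq' e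
  exact ⟨g * k₁, mul_mem hg hk₁, by rw [← es]; simp [mul_assoc], by rw [← ex]; simp [mul_assoc]⟩

/-- The subgroup of order three has a conjugate in the group of the common perpendicular. -/
theorem conj_single : (∃ g : G, (Subgroup.zpowers (a * d)).map (MulAut.conj g).toMonoidHom ≤ Subgroup.closure (common D a d)) ∧
    ∀ g h : G, (Subgroup.zpowers (a * d)).map (MulAut.conj g).toMonoidHom ≤ Subgroup.closure (common D a d) →
      (Subgroup.zpowers (a * d)).map (MulAut.conj h).toMonoidHom ≤ Subgroup.closure (common D a d) →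
      ∃ k ∈ Subgroup.closure (common D a d),
        ((Subgroup.zpowers (a * d)).map (MulAut.conj g).toMonoidHom).map (MulAut.conj k).toMonoidHom =
          (Subgroup.zpowers (a * d)).map (MulAut.conj h).toMonoidHom := by
  have hN := M22.numbered_ctx C
  have hmap : ∀ g : G, (Subgroup.zpowers (a * d)).map (MulAut.conj g).toMonoidHom =
      Subgroup.zpowers ((g * a * g⁻¹) * (g * d * g⁻¹)) := fun g => by
    rw [MonoidHom.map_zpowers]
    congr 1
    simp [MulAut.conj_apply, mul_assoc]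
  have inK : ∀ g : G, (Subgroup.zpowers (a * d)).map (MulAut.conj g).toMonoidHom ≤ Subgroup.closure (common D a d) →
      g * a * g⁻¹ ∈ common D a d ∧ g * d * g⁻¹ ∈ common D a d := by
    intro g hg
    rw [hmap, Subgroup.zpowers_le] at hg
    obtain ⟨k1, k2⟩ := closure_common_commute hg
    have hnc' : ¬ Commute (g * a * g⁻¹) (g * d * g⁻¹) := fun k => hnc ((commute_conj_iff g a d).mp k)
    have ga := conj_mem C.set.cls g ha
    have gd := conj_mem C.set.cls g hd
    have m1 := (commute_x_iff C.set.cls ga gd hnc' ha).mp k1.symm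
    have m2 := (commute_x_iff C.set.cls ga gd hnc' hd).mp k2.symm
    exact ⟨⟨M22.perp_symm ga m1.1, M22.perp_symm ga m2.1⟩, M22.perp_symm gd m1.2, M22.perp_symm gd m2.2⟩
  constructor
  · obtain ⟨s, hs⟩ := C.meets a ha d hd hnc
    obtain ⟨x, hx, hsx⟩ := apart_in_common C.set hN ha hd hnc hs
    obtain ⟨g, e1, e2⟩ := apart_pair_conj C.set ha hd hnc hs.1.1 hx.1.1 hsx
    refine ⟨g, ?_⟩
    rw [hmap, e1, e2, Subgroup.zpowers_le]
    exact mul_mem (Subgroup.subset_closure hs) (Subgroup.subset_closure hx)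
  · intro g h hg hh
    obtain ⟨k, hk, e1, e2⟩ := common_pair C ha hd hnc (inK g hg).1 (inK g hg).2
      (fun e => hnc ((commute_conj_iff g a d).mp e)) (inK h hh).1 (inK h hh).2
      (fun e => hnc ((commute_conj_iff h a d).mp e))
    refine ⟨k, hk, ?_⟩
    rw [hmap g, hmap h, MonoidHom.map_zpowers, ← e1, ← e2]
    congr 1
    simp [MulAut.conj_apply, mul_assoc]

end Cfsg.Agent.Fus.ThreeA.M22
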